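import Groth.Agent.Lib.FanoLines13.Expand

/-! # Lines through the points of a general hypersurface -/

set_option autoImplicit false
set_option linter.style.haveILetI false
universe u

open MvPolynomial Cardinal

noncomputable section

namespace Groth.Agent.FanoLines13

open Groth.Agent.FanoSeq13

variable {k : Type u} [Field k] {m d : ℕ} (i₀ : Fin (m + 2))

/-- A cone over an intersection of dimension `r` has dimension at most `r + 1`. -/
theorem tdeg_cone_le (a : Fin (m + 1) → k) (c : Idx m d → k) {r : ℕ}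
    (hr : ringKrullDim (MvPolynomial (Fin (m + 1)) k ⧸ Ideal.span (Set.range fun j => form c j)) ≤ r)
    (Q : Ideal (MvPolynomial (Fin (m + 2)) k)) [Q.IsPrime]
    (hQ : ∀ j, shift i₀ a (rename i₀.succAbove (form c j)) ∈ Q) :
    VarDim.tdeg k (MvPolynomial (Fin (m + 2)) k ⧸ Q) ≤ r + 1 := by
  let B := MvPolynomial (Fin (m + 2)) k ⧸ Q
  let f : MvPolynomial (Fin (m + 1)) k →ₐ[k] B :=
    (Ideal.Quotient.mkₐ k Q).comp ((shift i₀ a).comp (rename i₀.succAbove))
  let J := Ideal.span (Set.range fun j => form c j)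
  have hJ : ∀ x ∈ J, f x = 0 := fun x hx => by
    have : J ≤ RingHom.ker f.toRingHom := Ideal.span_le.2 (by
      rintro _ ⟨j, rfl⟩
      exact Ideal.Quotient.eq_zero_iff_mem.2 (hQ j))
    exact this hx
  let z : B := Ideal.Quotient.mk Q (X i₀)
  let g : Polynomial (MvPolynomial (Fin (m + 1)) k ⧸ J) →+* B :=
    Polynomial.eval₂RingHom (Ideal.Quotient.lift J f.toRingHom hJ) z
  have hC : ∀ x : k, algebraMap k (MvPolynomial (Fin (m + 2)) k ⧸ Q) x = Ideal.Quotient.mk Q (MvPolynomial.C x) :=
    fun x => rfl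
  have hgs : Function.Surjective g := by
    intro b
    obtain ⟨b, rfl⟩ := Ideal.Quotient.mk_surjective b
    induction b using MvPolynomial.induction_on with
    | C x => exact ⟨Polynomial.C (Ideal.Quotient.mk J (MvPolynomial.C x)), by
        simp [g, f, shift, hC]⟩
    | add p q hp hq =>
      obtain ⟨p', hp'⟩ := hp; obtain ⟨q', hq'⟩ := hq
      exact ⟨p' + q', by rw [map_add, map_add, hp', hq']⟩
    | mul_X p i hp =>
      obtain ⟨p', hp'⟩ := hp
      obtain ⟨q', hq'⟩ : ∃ q', g q' = Ideal.Quotient.mk Q (X i) := by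
        rcases Fin.eq_self_or_eq_succAbove i₀ i with hi | ⟨q, rfl⟩
        · exact ⟨Polynomial.X, by simp [g, z, hi]⟩
        · refine ⟨Polynomial.C (Ideal.Quotient.mk J (X q)) + Polynomial.C (Ideal.Quotient.mk J (MvPolynomial.C (a q))) *
            Polynomial.X, ?_⟩
          simp [g, z, f, shift, hC]
      exact ⟨p' * q', by rw [map_mul, map_mul, hp', hq']⟩
  have h1 := (ringKrullDim_le_of_surjective g hgs).trans (le_of_eq (Polynomial.ringKrullDim_of_isNoetherianRing))
  have h2 : ringKrullDim B ≤ ((r + 1 : ℕ) : WithBot ℕ∞) := by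
    refine h1.trans ?_
    push_cast
    exact add_le_add hr le_rfl
  rw [VarDim.ringKrullDim_eq_tdeg k B] at h2
  exact_mod_cast h2

/-- The equations of the cone of lines vanish on it. -/
theorem eval_cone [Infinite k] (a : Fin (m + 1) → k) (c : Idx m d → k) (w : Fin (m + 2) → k)
    (hw : ∀ s t : k, eval (s • (i₀.insertNth 1 a : Fin (m + 2) → k) + t • w) (shift i₀ a (expand i₀ c)) = 0) (j : Fin d) :
    eval w (shift i₀ a (rename i₀.succAbove (form c j))) = 0 := by
  rw [eval_shift, eval_rename]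
  let y : Fin (m + 1) → k := fun p => w (i₀.succAbove p) - a p * w i₀
  have hy : ((i₀.insertNth (w i₀) y : Fin (m + 2) → k) ∘ i₀.succAbove) = y := funext fun p => by simp
  rw [hy]
  have h : ∀ s : k, ∑ i : Fin d, s ^ (d - (i.1 + 1)) * eval y (form c i) = 0 := fun s => by
    have h0 := hw (s - w i₀) 1
    rw [eval_shift, eval_expand] at h0
    simp only [Pi.add_apply, Pi.smul_apply, smul_eq_mul, Fin.insertNth_apply_same, Fin.insertNth_apply_succAbove,
      mul_one, one_mul, sub_add_cancel] at h0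
    have hfun : (fun p => (s - w i₀) * a p + w (i₀.succAbove p) - a p * s) = y := funext fun p => by
      simp only [y]; ring
    rw [hfun] at h0
    exact h0
  let P : Polynomial k := ∑ i : Fin d, Polynomial.monomial (d - (i.1 + 1)) (eval y (form c i))
  have hP : P = 0 := Polynomial.funext fun s => by
    simp only [P, Polynomial.eval_finsetSum, Polynomial.eval_monomial, Polynomial.eval_zero]
    exact Eq.trans (Finset.sum_congr rfl fun i _ => mul_comm _ _) (h s)
  have h2 := congrArg (fun R => Polynomial.coeff R (d - (j.1 + 1))) hP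
  simp only [P, Polynomial.finsetSum_coeff, Polynomial.coeff_monomial, Polynomial.coeff_zero] at h2
  rwa [Finset.sum_eq_single j (fun i _ hne => if_neg fun h => hne (Fin.ext (by omega))) (by simp), if_pos rfl] at h2

/-- The locus of expansions with too many lines. -/
def bad (k : Type u) [Field k] (m d : ℕ) : Set ((j : Fin d) → LefPen.Form m k (j.1 + 1)) :=
  {G | ((m + 2 - d : ℕ) : WithBot ℕ∞) ≤
    ringKrullDim (MvPolynomial (Fin (m + 1)) k ⧸ Ideal.span (Set.range fun j : Fin d => (G j).1))}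

theorem card_expo : Fintype.card (Idx m d) + 1 ≤ Fintype.card (Expo (m + 1) d) := by
  classical
  rw [← Fintype.card_option]
  refine Fintype.card_le_of_injective (fun o => o.elim ⟨Finsupp.single 0 d, Finsupp.degree_single _ _⟩
    fun v => ⟨emb 0 v, degree_emb 0 v⟩) ?_
  have hne : ∀ v : Idx m d, Finsupp.single 0 d ≠ emb (0 : Fin (m + 2)) v := fun v h => by
    have h1 : v.2.1 = 0 := Finsupp.ext fun p => by
      rw [← emb_succAbove 0 v p, ← h, Finsupp.single_eq_of_ne (Fin.succAbove_ne _ p)]
      rfl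
    have h2 := v.2.2
    rw [h1, map_zero] at h2
    omega
  rintro (_ | v) (_ | v') h
  · rfl
  · exact absurd (congrArg Subtype.val h) (hne v')
  · exact absurd (congrArg Subtype.val h).symm (hne v)
  · exact congrArg some (emb_injective 0 (congrArg Subtype.val h))

theorem map_coeff {R R' : Type u} [CommRing R] [CommRing R'] (σ : R →+* R') (a : Fin (m + 1) → R) (c : Idx m d → R)
    (e : Fin (m + 2) →₀ ℕ) :
    σ (coeff e (shift i₀ a (expand i₀ c))) = coeff e (shift i₀ (fun p => σ (a p)) (expand i₀ fun v => σ (c v))) := by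
  rw [← coeff_map, shift_map, expand_map]

/-- The coefficients of the universal translated expansion. -/
def univ : MvPolynomial (Expo (m + 1) d) k →ₐ[k] MvPolynomial (Fin (m + 1)) (MvPolynomial (Idx m d) k) :=
  aeval fun e => coeff e.1 (shift i₀ (fun p => X p) (expand i₀ fun v => MvPolynomial.C (X v)))

theorem exists_ker {B : Type u} [CommRing B] [IsDomain B] [Algebra k B] [Algebra.FiniteType k B] {ι κ : Type}
    [Fintype ι] [Fintype κ] (ψ : MvPolynomial ι k →ₐ[k] MvPolynomial κ B)
    (h : VarDim.tdeg k B + Fintype.card κ < Fintype.card ι) : ∃ G, G ≠ 0 ∧ ψ G = 0 := by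
  by_contra hc
  push Not at hc
  have hinj : Function.Injective ψ := (injective_iff_map_eq_zero ψ).2 fun G hG => by
    by_contra h0
    exact hc G h0 hG
  have h1 := trdeg_le_of_injective ψ hinj
  rw [← trdeg_add_eq k B (A := MvPolynomial κ B), MvPolynomial.trdeg_of_isDomain,
    MvPolynomial.trdeg_of_isDomain, VarDim.trdeg_eq_tdeg k B, Cardinal.mk_fintype, Cardinal.mk_fintype,
    Cardinal.lift_natCast, Cardinal.lift_natCast] at h1
  have h2 : Fintype.card ι ≤ VarDim.tdeg k B + Fintype.card κ := by exact_mod_cast h1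
  omega

theorem exists_elim [Infinite k] (hd : 1 ≤ d) (hdm : d + 2 ≤ m) :
    ∃ G : MvPolynomial (Expo (m + 1) d) k, G ≠ 0 ∧ ∀ (a : Fin (m + 1) → k), ∀ S ∈ bad k m d,
      eval (fun e => coeff e.1 (shift i₀ a (expand i₀ (seqEquiv m d S)))) G = 0 := by
  classical
  let I : Ideal (MvPolynomial (Idx m d) k) := ⨅ S ∈ bad k m d, RingHom.ker (eval (seqEquiv m d S))
  have hI : ∀ f, (∀ S ∈ bad k m d, eval (seqEquiv m d S) f = 0) → f ∈ I := fun f hf => by
    simp only [I, Submodule.mem_iInf]
    exact hf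
  have hker : ∀ Q ∈ I.minimalPrimes, ∃ G : MvPolynomial (Expo (m + 1) d) k, G ≠ 0 ∧
      MvPolynomial.map (Ideal.Quotient.mk Q) (univ i₀ G) = 0 := by
    intro Q hQ
    haveI := hQ.1.1
    have h3 := tdeg_seq hd hdm Q hQ.1.1 fun f hf => hQ.1.2 (hI f hf)
    have := card_expo (m := m) (d := d)
    exact exists_ker ((MvPolynomial.mapAlgHom (Ideal.Quotient.mkₐ k Q)).comp (univ i₀))
      (by rw [Fintype.card_fin]; omega)
  have hfin := Ideal.finite_minimalPrimes_of_isNoetherianRing (MvPolynomial (Idx m d) k) I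
  choose! G hG0 hG using hker
  refine ⟨∏ Q ∈ hfin.toFinset, G Q, Finset.prod_ne_zero_iff.2 fun Q hQ => hG0 Q (hfin.mem_toFinset.1 hQ),
    fun a S hS => ?_⟩
  let χ : MvPolynomial (Fin (m + 1)) (MvPolynomial (Idx m d) k) →+* k := eval₂Hom (eval (seqEquiv m d S)) a
  have hco : ∀ H : MvPolynomial (Expo (m + 1) d) k,
      eval (fun e => coeff e.1 (shift i₀ a (expand i₀ (seqEquiv m d S)))) H = χ (univ i₀ H) := by
    intro H
    induction H using MvPolynomial.induction_on with
    | C x => simp [univ, χ, MvPolynomial.algebraMap_apply]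
    | add p q hp hq => simp only [map_add, hp, hq]
    | mul_X p e hp =>
      rw [map_mul, map_mul, map_mul, hp, eval_X]
      congr 1
      have e1 : univ (k := k) (d := d) i₀ (X e) = coeff e.1 (shift i₀
          (fun p => (X p : MvPolynomial (Fin (m + 1)) (MvPolynomial (Idx m d) k)))
          (expand i₀ fun v : Idx m d => (MvPolynomial.C (X v) : MvPolynomial (Fin (m + 1)) (MvPolynomial (Idx m d) k)))) := by
        unfold univ
        exact aeval_X _ e
      rw [e1, map_coeff i₀ χ]
      have ha : (fun p => χ (X p)) = a := funext fun p => eval₂Hom_X' _ _ p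
      have hc : (fun v => χ (MvPolynomial.C (X v))) = seqEquiv m d S := funext fun v =>
        (eval₂Hom_C _ _ _).trans (eval_X v)
      rw [ha, hc]
  rw [hco]
  obtain ⟨u, hu⟩ : ∃ u, u = univ i₀ (∏ Q ∈ hfin.toFinset, G Q) := ⟨_, rfl⟩
  rw [← hu]
  have hcoeff : ∀ e, eval (seqEquiv m d S) (coeff e u) = 0 := by
    intro e
    have hrad : coeff e u ∈ I.radical := by
      rw [← Ideal.sInf_minimalPrimes]
      refine Submodule.mem_sInf.2 fun Q hQ => ?_
      rw [← Ideal.Quotient.eq_zero_iff_mem, ← coeff_map, hu, map_prod, map_prod]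
      rw [Finset.prod_eq_zero (hfin.mem_toFinset.2 hQ) (hG Q hQ), coeff_zero]
    obtain ⟨n, hn⟩ := hrad
    simp only [I, Submodule.mem_iInf, RingHom.mem_ker, map_pow] at hn
    exact eq_zero_of_pow_eq_zero (hn S hS)
  show eval₂ _ _ u = 0
  rw [eval₂_eq]
  exact Finset.sum_eq_zero fun e _ => by rw [hcoeff, zero_mul]

/-- A general form has no point with too many lines. -/
theorem general_cone [Infinite k] (hd : 1 ≤ d) (hdm : d + 2 ≤ m) :
    ∃ G : MvPolynomial (Expo (m + 1) d) k, G ≠ 0 ∧ ∀ Φ : LefPen.Form (m + 1) k d,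
      eval (fun e : Expo (m + 1) d => coeff e.1 Φ.1) G ≠ 0 →
        ∀ v : Fin (m + 2) → k, v ≠ 0 → eval v Φ.1 = 0 →
          LefPen.CodimGE k {w : Fin (m + 2) → k | ∀ s t : k, eval (s • v + t • w) Φ.1 = 0} d := by
  classical
  choose G hG0 hG using fun i : Fin (m + 2) => exists_elim (k := k) i hd hdm
  refine ⟨∏ i, G i, Finset.prod_ne_zero_iff.2 fun i _ => hG0 i, fun Φ hΦ v hv hv0 => ?_⟩
  obtain ⟨i, hi⟩ := Function.ne_iff.1 hv
  let a : Fin (m + 1) → k := fun p => v (i.succAbove p) * (v i)⁻¹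
  have hva : (i.insertNth 1 a : Fin (m + 2) → k) = (v i)⁻¹ • v := funext fun q => by
    rcases Fin.eq_self_or_eq_succAbove i q with hq | ⟨p, rfl⟩
    · rw [hq, Fin.insertNth_apply_same, Pi.smul_apply, smul_eq_mul, inv_mul_cancel₀ hi]
    · rw [Fin.insertNth_apply_succAbove, Pi.smul_apply, smul_eq_mul, mul_comm]
  have hhom : Φ.1.IsHomogeneous d := (mem_homogeneousSubmodule _ _).1 Φ.2
  have h0 : eval (i.insertNth 1 a) Φ.1 = 0 := by
    rw [hva, eval_eq]
    have h1 : ∀ e ∈ Φ.1.support, ∏ q ∈ e.support, ((v i)⁻¹ • v) q ^ e q = (v i)⁻¹ ^ d * ∏ q ∈ e.support, v q ^ e q := by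
      intro e he
      simp only [Pi.smul_apply, smul_eq_mul, mul_pow, Finset.prod_mul_distrib, Finset.prod_pow_eq_pow_sum]
      congr 2
      by_contra hne
      exact mem_support_iff.1 he (hhom.coeff_eq_zero hne)
    rw [Finset.sum_congr rfl fun e he => by rw [h1 e he, mul_left_comm], ← Finset.mul_sum, ← eval_eq, hv0, mul_zero]
  obtain ⟨c, hc⟩ := exists_expand i a hhom h0
  have hgood : ¬ (seqEquiv m d).symm c ∈ bad k m d := fun hS => by
    have := hG i a _ hS
    rw [LinearEquiv.apply_symm_apply, hc] at this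
    exact hΦ (by rw [map_prod]; exact Finset.prod_eq_zero (Finset.mem_univ i) this)
  have hdim : ringKrullDim (MvPolynomial (Fin (m + 1)) k ⧸ Ideal.span (Set.range fun j => form c j)) ≤
      ((m + 1 - d : ℕ) : WithBot ℕ∞) := by
    show Order.krullDim _ ≤ _
    rw [Order.krullDim]
    refine iSup_le fun l => ?_
    by_contra hl
    push Not at hl
    refine hgood (le_trans ?_ (Order.LTSeries.length_le_krullDim l))
    have hl' : m + 1 - d < l.length := by exact_mod_cast hl
    exact_mod_cast (show m + 2 - d ≤ l.length by omega)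
  refine codimGE_of (LinearEquiv.refl k (Fin (m + 2) → k)) _ _ fun Q hQ hDQ => ?_
  haveI := hQ
  have hmem : ∀ j, shift i a (rename i.succAbove (form c j)) ∈ Q := fun j => hDQ _ fun w hw => by
    refine eval_cone i a c w (fun s t => ?_) j
    rw [hc, hva, smul_smul]
    exact hw _ t
  have := tdeg_cone_le i a c hdim Q hmem
  rw [Fintype.card_fin]
  omega

end Groth.Agent.FanoLines13
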