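import Groth.Agent.Lib.FanoSeq13.Codim

/-! # Expansion of a form at one of its zeros -/

set_option autoImplicit false
set_option linter.style.haveILetI false
universe u

open MvPolynomial

noncomputable section

namespace Groth.Agent.FanoLines13

open Groth.Agent.FanoSeq13

variable {R : Type u} [CommRing R] {m d : ℕ} (i₀ : Fin (m + 2))

/-- The exponent of the monomial of the expansion. -/
def emb (v : Idx m d) : Fin (m + 2) →₀ ℕ :=
  Finsupp.single i₀ (d - (v.1.1 + 1)) + Finsupp.mapDomain i₀.succAbove v.2.1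

theorem emb_succAbove (v : Idx m d) (p : Fin (m + 1)) : emb i₀ v (i₀.succAbove p) = v.2.1 p := by
  rw [emb, Finsupp.add_apply, Finsupp.single_eq_of_ne (Fin.succAbove_ne i₀ p),
    Finsupp.mapDomain_apply Fin.succAbove_right_injective, zero_add]

theorem degree_emb (v : Idx m d) : (emb i₀ v).degree = d := by
  rw [emb, map_add, Finsupp.degree_single, Finsupp.degree_mapDomain, v.2.2]
  have := v.1.2
  omega

theorem emb_injective : Function.Injective (emb (m := m) (d := d) i₀) := by
  rintro ⟨j, e⟩ ⟨j', e'⟩ h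
  have h1 : e.1 = e'.1 := Finsupp.ext fun p => by
    rw [← emb_succAbove i₀ ⟨j, e⟩ p, ← emb_succAbove i₀ ⟨j', e'⟩ p, h]
  obtain rfl : j = j' := Fin.ext (by
    have := congrArg Finsupp.degree h1
    rw [e.2, e'.2] at this
    omega)
  obtain rfl : e = e' := Subtype.ext h1
  rfl

/-- The form with given expansion at the coordinate point `i₀`. -/
def expand (c : Idx m d → R) : MvPolynomial (Fin (m + 2)) R := ∑ v, monomial (emb i₀ v) (c v)

theorem expand_homog (c : Idx m d → R) : (expand i₀ c).IsHomogeneous d :=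
  IsHomogeneous.sum _ _ _ fun v _ => isHomogeneous_monomial _ (degree_emb i₀ v)

theorem eq_emb_or (E : Fin (m + 2) →₀ ℕ) (hE : E.degree = d) :
    E = Finsupp.single i₀ d ∨ ∃ v : Idx m d, emb i₀ v = E := by
  classical
  let e : Fin (m + 1) →₀ ℕ := Finsupp.equivFunOnFinite.symm fun p => E (i₀.succAbove p)
  have hsum : E i₀ + e.degree = d := by
    rw [← hE, Finsupp.degree_eq_sum, Finsupp.degree_eq_sum, Fin.sum_univ_succAbove _ i₀]
    simp [e]
  rcases Nat.eq_zero_or_pos e.degree with h0 | h0
  · left
    refine Finsupp.ext fun q => ?_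
    rcases Fin.eq_self_or_eq_succAbove i₀ q with rfl | ⟨p, rfl⟩
    · rw [Finsupp.single_eq_same]
      omega
    · rw [Finsupp.single_eq_of_ne (Fin.succAbove_ne i₀ p)]
      have h1 := (Finsupp.degree_eq_zero_iff e).1 h0
      exact DFunLike.congr_fun h1 p
  · right
    obtain ⟨j, hj⟩ : ∃ j, e.degree = j + 1 := ⟨e.degree - 1, by omega⟩
    refine ⟨⟨⟨j, by omega⟩, ⟨e, hj⟩⟩, Finsupp.ext fun q => ?_⟩
    rcases Fin.eq_self_or_eq_succAbove i₀ q with rfl | ⟨p, rfl⟩
    · rw [emb, Finsupp.add_apply, Finsupp.single_eq_same,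
        Finsupp.mapDomain_of_notMem_range _ _ (by rintro ⟨p, hp⟩; exact Fin.succAbove_ne q p hp), add_zero]
      show d - (j + 1) = E q
      omega
    · rw [emb_succAbove]
      simp [e]

/-- Every form without pure power is an expansion. -/
theorem expand_coeff (P : MvPolynomial (Fin (m + 2)) R) (hP : P.IsHomogeneous d)
    (h0 : coeff (Finsupp.single i₀ d) P = 0) : expand i₀ (fun v : Idx m d => coeff (emb i₀ v) P) = P := by
  classical
  ext E
  rw [expand, coeff_sum]
  simp only [coeff_monomial]
  by_cases hE : E.degree = d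
  · rcases eq_emb_or i₀ E hE with rfl | ⟨v, rfl⟩
    · rw [h0]
      refine Finset.sum_eq_zero fun v _ => ?_
      split_ifs with h
      · rw [h, h0]
      · rfl
    · rw [Finset.sum_eq_single v (fun w _ hw => if_neg fun h => hw (emb_injective i₀ h)) (by simp), if_pos rfl]
  · rw [hP.coeff_eq_zero hE]
    exact Finset.sum_eq_zero fun v _ => if_neg fun (h : emb i₀ v = E) => hE (h ▸ degree_emb i₀ v)

/-- The value of an expansion. -/
theorem eval_expand (c : Idx m d → R) (x : Fin (m + 2) → R) :
    eval x (expand i₀ c) = ∑ j : Fin d, x i₀ ^ (d - (j.1 + 1)) * eval (fun p => x (i₀.succAbove p)) (form c j) := by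
  classical
  rw [expand, map_sum, Fintype.sum_sigma]
  refine Finset.sum_congr rfl fun j _ => ?_
  rw [form, map_sum, Finset.mul_sum]
  refine Finset.sum_congr rfl fun e _ => ?_
  rw [eval_monomial, eval_monomial, emb, Finsupp.prod_add_index' (fun _ => pow_zero _) (fun _ => pow_add _),
    Finsupp.prod_single_index (h := fun i n => x i ^ n) (pow_zero _),
    Finsupp.prod_mapDomain_index (fun _ => pow_zero _) (fun _ => pow_add _)]
  ring

theorem expand_map {R' : Type u} [CommRing R'] (σ : R →+* R') (c : Idx m d → R) :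
    MvPolynomial.map σ (expand i₀ c) = expand i₀ fun v => σ (c v) := by
  simp [expand, map_monomial]

/-- The translation taking the point to the coordinate point. -/
def shift (a : Fin (m + 1) → R) : MvPolynomial (Fin (m + 2)) R →ₐ[R] MvPolynomial (Fin (m + 2)) R :=
  aeval (i₀.insertNth (X i₀) fun p => X (i₀.succAbove p) - MvPolynomial.C (a p) * X i₀)

theorem shift_map {R' : Type u} [CommRing R'] (σ : R →+* R') (a : Fin (m + 1) → R) (P : MvPolynomial (Fin (m + 2)) R) :
    MvPolynomial.map σ (shift i₀ a P) = shift i₀ (fun p => σ (a p)) (MvPolynomial.map σ P) := by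
  induction P using MvPolynomial.induction_on with
  | C r => simp [shift, MvPolynomial.algebraMap_eq]
  | add p q hp hq => simp only [map_add, hp, hq]
  | mul_X p i hp =>
    simp only [map_mul, hp, map_X]
    congr 1
    simp only [shift, aeval_X]
    rcases Fin.eq_self_or_eq_succAbove i₀ i with rfl | ⟨q, rfl⟩
    · simp
    · simp

theorem shift_homog (a : Fin (m + 1) → R) {P : MvPolynomial (Fin (m + 2)) R} {e : ℕ} (hP : P.IsHomogeneous e) :
    (shift i₀ a P).IsHomogeneous e := by
  have h : ∀ i, IsHomogeneous ((i₀.insertNth (α := fun _ => MvPolynomial (Fin (m + 2)) R) (X i₀)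
      (fun p => X (i₀.succAbove p) - MvPolynomial.C (a p) * X i₀)) i) 1 := fun i => by
    rcases Fin.eq_self_or_eq_succAbove i₀ i with hi | ⟨q, rfl⟩
    · rw [hi, Fin.insertNth_apply_same]; exact isHomogeneous_X _ _
    · rw [Fin.insertNth_apply_succAbove]
      exact (isHomogeneous_X _ _).sub ((isHomogeneous_X _ _).C_mul _)
  have := hP.aeval _ h
  rwa [one_mul] at this

theorem shift_shift (a : Fin (m + 1) → R) (P : MvPolynomial (Fin (m + 2)) R) :
    shift i₀ a (shift i₀ (-a) P) = P := by
  have h : (shift i₀ a).comp (shift i₀ (-a)) = AlgHom.id R _ := by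
    refine algHom_ext fun i => ?_
    rcases Fin.eq_self_or_eq_succAbove i₀ i with rfl | ⟨q, rfl⟩
    · simp [shift]
    · simp [shift, MvPolynomial.algebraMap_eq]
  exact DFunLike.congr_fun h P

theorem eval_shift (a : Fin (m + 1) → R) (x : Fin (m + 2) → R) (P : MvPolynomial (Fin (m + 2)) R) :
    eval x (shift i₀ a P) = eval (i₀.insertNth (x i₀) fun p => x (i₀.succAbove p) - a p * x i₀) P := by
  induction P using MvPolynomial.induction_on with
  | C r => simp [shift, MvPolynomial.algebraMap_eq]
  | add p q hp hq => simp only [map_add, hp, hq]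
  | mul_X p i hp =>
    simp only [map_mul, hp]
    congr 1
    simp only [shift, aeval_X, eval_X]
    rcases Fin.eq_self_or_eq_succAbove i₀ i with rfl | ⟨q, rfl⟩
    · simp
    · simp

theorem coeff_single_eq_eval {P : MvPolynomial (Fin (m + 2)) R} (hP : P.IsHomogeneous d) :
    coeff (Finsupp.single i₀ d) P = eval (i₀.insertNth 1 fun _ => 0) P := by
  classical
  rw [eval_eq]
  rw [Finset.sum_eq_single (Finsupp.single i₀ d)]
  · rw [Finset.prod_eq_one fun i hi => ?_, mul_one]
    obtain rfl : i = i₀ := by
      by_contra hne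
      rw [Finsupp.mem_support_iff, Finsupp.single_eq_of_ne hne] at hi
      exact hi rfl
    simp
  · intro E hE hne
    have hdeg : E.degree = d := by
      by_contra h
      exact mem_support_iff.1 hE (hP.coeff_eq_zero h)
    rcases eq_emb_or i₀ E hdeg with rfl | ⟨v, rfl⟩
    · exact absurd rfl hne
    · obtain ⟨p, hp⟩ : ∃ p, v.2.1 p ≠ 0 := by
        by_contra! hc
        have : v.2.1.degree = 0 := (Finsupp.degree_eq_zero_iff _).2 (Finsupp.ext hc)
        rw [v.2.2] at this
        omega
      rw [Finset.prod_eq_zero (Finsupp.mem_support_iff.2 (by rwa [emb_succAbove] : emb i₀ v (i₀.succAbove p) ≠ 0))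
        (by rw [Fin.insertNth_apply_succAbove, emb_succAbove, zero_pow hp]), mul_zero]
  · intro h
    rw [notMem_support_iff.1 h, zero_mul]

/-- Every form with a zero at the point is a translated expansion. -/
theorem exists_expand (a : Fin (m + 1) → R) {P : MvPolynomial (Fin (m + 2)) R} (hP : P.IsHomogeneous d)
    (h0 : eval (i₀.insertNth 1 a) P = 0) : ∃ c : Idx m d → R, shift i₀ a (expand i₀ c) = P := by
  refine ⟨fun v => coeff (emb i₀ v) (shift i₀ (-a) P), ?_⟩
  rw [expand_coeff i₀ _ (shift_homog i₀ _ hP), shift_shift]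
  rw [coeff_single_eq_eval i₀ (shift_homog i₀ _ hP), eval_shift, Fin.insertNth_apply_same]
  simpa using h0

end Groth.Agent.FanoLines13
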